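import Cfsg.Agent.Lib.BlockFour.Local

/-!
# Symmetric algebras with one simple module and few trace forms

`exists_idempotent_of_one_simple`: such an algebra is a matrix algebra over a commutative corner.
-/

set_option autoImplicit false
set_option linter.style.haveILetI false

namespace Cfsg.Agent.BlockFour

open Matrix Module Cfsg.Agent.BlockTwo

variable {k : Type*} [Field k] {A : Type*} [Ring A] [Algebra k A]

/-- A symmetric algebra with one simple module and at most four independent trace forms. -/
theorem exists_idempotent_of_one_simple [FiniteDimensional k A] (τ : Dual k A)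
    (hsymm : ∀ a b, τ (a * b) = τ (b * a)) (hnd : ∀ a, (∀ b, τ (a * b) = 0) → a = 0)
    (hTF : finrank k (traceForms k A) ≤ 4)
    {n : ℕ} [NeZero n] (π : A →ₐ[k] Matrix (Fin n) (Fin n) k) (hπ : Function.Surjective π)
    (J : Ideal A) (hJ : ∀ x, x ∈ J ↔ π x = 0) (hnil : IsNilpotent J) :
    ∃ (f : A) (c : ℕ), IsIdempotentElem f ∧ c ≤ finrank k (traceForms k A) ∧ finrank k A = c * (n * n) ∧
      finrank k (LinearMap.range (LinearMap.mulRight k f)) = c * n := by
  obtain ⟨N, hN⟩ := hnil
  have hker : ∀ x, π x = 0 → IsNilpotent x := fun x hx => isNilpotent_of_mem ((hJ x).mpr hx) hN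
  obtain ⟨f, u, w, hf, hπf, huw⟩ := exists_matrix_units π hπ hker
  set e := f 0 with he
  have hee : e * e = e := hf.idem 0
  -- the corner
  let L : Submodule k A :=
    { carrier := {x | e * x = x ∧ x * e = x}
      zero_mem' := ⟨mul_zero _, zero_mul _⟩
      add_mem' := fun {x y} hx hy => ⟨by rw [mul_add, hx.1, hy.1], by rw [add_mul, hx.2, hy.2]⟩
      smul_mem' := fun c x hx => ⟨by rw [mul_smul_comm, hx.1], by rw [smul_mul_assoc, hx.2]⟩ }
  have hcorner : ∀ a i l, u i * a * w l ∈ L := fun a i l =>
    ⟨by rw [← mul_assoc, ← mul_assoc, (huw i).1], by rw [mul_assoc, (huw l).2.2.2.1]⟩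
  have hLmul : ∀ x ∈ L, ∀ y ∈ L, x * y ∈ L := fun x hx y hy =>
    ⟨by rw [← mul_assoc, hx.1], by rw [mul_assoc, hy.2]⟩
  -- the trace to the corner
  let Tu : A →ₗ[k] A :=
    ∑ i, (LinearMap.mulRight k (w i)).comp (LinearMap.mulLeft k (u i))
  have hTu : ∀ a, Tu a = ∑ i, u i * a * w i := fun a => by simp [Tu]
  have hTuL : ∀ a, Tu a ∈ L := fun a => by rw [hTu]; exact L.sum_mem fun i _ => hcorner a i i
  have hu0 : u 0 * w 0 = e := (huw 0).2.2.2.2.1
  have hw0 : w 0 * u 0 = e := (huw 0).2.2.2.2.2
  have hsum : ∀ a b, a * b = ∑ l, a * w l * (u l * b) := fun a b => by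
    conv_lhs => rw [← mul_one a, ← hf.complete, Finset.mul_sum, Finset.sum_mul]
    exact Finset.sum_congr rfl fun l _ => by rw [← (huw l).2.2.2.2.2]; simp only [mul_assoc]
  -- key: commutators of `A` go to commutators of the corner
  have key : ∀ W : Submodule k L,
      (∀ x y : L, ∀ z z' : L, (z : A) = x * y → (z' : A) = y * x → z - z' ∈ W) →
      finrank k (L ⧸ W) ≤ finrank k (traceForms k A) := by
    intro W hW
    let Ψ : Dual k (L ⧸ W) →ₗ[k] Dual k A :=
      (W.mkQ.comp (Tu.codRestrict L hTuL)).dualMap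
    have hmem : ∀ φ, Ψ φ ∈ traceForms k A := by
      intro φ a b
      show φ (W.mkQ ⟨Tu (a * b), hTuL _⟩) = φ (W.mkQ ⟨Tu (b * a), hTuL _⟩)
      have e1 : ∀ a b, (⟨Tu (a * b), hTuL _⟩ : L) =
          ∑ i, ∑ l, (⟨(u i * a * w l) * (u l * b * w i),
            hLmul _ (hcorner a i l) _ (hcorner b l i)⟩ : L) := by
        intro a b
        refine Subtype.ext ?_
        simp only [Submodule.coe_sum]
        rw [hTu]
        refine Finset.sum_congr rfl fun i _ => ?_
        rw [← mul_assoc (u i) a b, hsum (u i * a) b, Finset.sum_mul]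
        exact Finset.sum_congr rfl fun l _ => by simp only [mul_assoc]
      congr 1
      rw [← sub_eq_zero, ← map_sub, Submodule.mkQ_apply, Submodule.Quotient.mk_eq_zero, e1 a b, e1 b a]
      conv in (∑ i, ∑ l, _) - _ => arg 2; rw [Finset.sum_comm]
      rw [← Finset.sum_sub_distrib]
      refine W.sum_mem fun i _ => ?_
      rw [← Finset.sum_sub_distrib]
      exact W.sum_mem fun l _ => hW ⟨_, hcorner a i l⟩ ⟨_, hcorner b l i⟩ _ _ rfl rfl
    have hid : ∀ x : L, Tu (u 0 * w 0 * (w 0 * (x : A) * u 0) * (u 0 * w 0)) = x := by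
      intro x
      have hw0e : e * w 0 = w 0 := (huw 0).2.2.1
      have hu0e : u 0 * e = u 0 := (huw 0).2.1
      rw [hu0, ← mul_assoc e, ← mul_assoc e, hw0e, mul_assoc _ (u 0) e, hu0e, hTu,
        Finset.sum_eq_single 0]
      · rw [← mul_assoc, ← mul_assoc, hu0, mul_assoc, hu0, x.2.1, x.2.2]
      · intro i _ hi
        have : u i * w 0 = 0 := by
          rw [← (huw i).2.1, ← hw0e, mul_assoc, ← mul_assoc (f i), hf.ortho hi, zero_mul, mul_zero]
        rw [← mul_assoc, ← mul_assoc, this]
        simp
      · simp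
    have hinj : Function.Injective Ψ := by
      refine LinearMap.dualMap_injective_of_surjective fun q => ?_
      obtain ⟨x, rfl⟩ := Submodule.mkQ_surjective W q
      exact ⟨_, congrArg W.mkQ (Subtype.ext (hid x))⟩
    have h := LinearMap.finrank_le_finrank_of_injective
      (f := Ψ.codRestrict (traceForms k A) hmem) (fun a b h => hinj (congrArg Subtype.val h))
    rw [Subspace.dual_finrank_eq] at h
    exact h
  -- the radical of the corner
  let Jk : Submodule k A := J.restrictScalars k
  let M : Submodule k A := L ⊓ Jk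
  have heL : e ∈ L := ⟨hee, hee⟩
  have hML : M * M ≤ M := Submodule.mul_le.mpr fun x hx y hy =>
    ⟨hLmul x hx.1 y hy.1, J.mul_mem_left x hy.2⟩
  have hscal : ∀ x ∈ L, ∃ c : k, x - c • e ∈ M := by
    intro x hx
    refine ⟨π x 0 0, L.sub_mem hx (L.smul_mem _ heL), (hJ _).mpr ?_⟩
    have h0 : π x = Matrix.single 0 0 1 * π x * Matrix.single 0 0 1 := by
      rw [← hπf, ← map_mul, ← map_mul, ← he, hx.1, hx.2]
    rw [map_sub, map_smul, he, hπf, h0, sub_eq_zero]
    ext i l
    by_cases hi : i = 0 <;> by_cases hl : l = 0 <;>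
      simp [Matrix.mul_apply, Matrix.single_apply, hi, hl, Ne.symm, eq_comm]
  have hMN : ∀ m : ℕ, M ^ (m + 1) ≤ (J ^ (m + 1) : Ideal A).restrictScalars k := by
    intro m
    induction m with
    | zero => rw [pow_one, Submodule.pow_one]; exact inf_le_right
    | succ m ih =>
      rw [pow_succ M]
      exact Submodule.mul_le.mpr fun x hx y hy => by
        rw [Submodule.restrictScalars_mem, Submodule.pow_succ]
        exact Submodule.mul_mem_mul (ih hx) hy.2
  have hbot : M ^ (N + 1) = ⊥ := by
    rw [eq_bot_iff]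
    refine (hMN N).trans fun x hx => ?_
    rw [Submodule.restrictScalars_mem, Submodule.pow_succ, hN, zero_mul] at hx
    exact hx
  have heM : e ∉ M := fun h => by
    have h' := (hJ e).mp h.2
    rw [he, hπf] at h'
    simpa using congrFun (congrFun h' 0) 0
  have hcomm : ∀ x ∈ L, ∀ y ∈ L, x * y = y * x := by
    refine comm_of_local heL inf_le_left (fun x hx => hx) hML hbot hscal heM τ hsymm
      (fun x hx h => hnd x fun b => ?_) fun W hWL hW => ?_
    · have hb : e * b * e ∈ L := ⟨by rw [← mul_assoc, ← mul_assoc, hee], by rw [mul_assoc, hee]⟩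
      have h' := h _ hb
      rwa [← mul_assoc, ← mul_assoc, hx.2, hsymm _ e, ← mul_assoc, hx.1] at h'
    · have h := key (W.comap L.subtype) fun x y z z' hz hz' => by
        show ((z - z' : L) : A) ∈ W
        rw [Submodule.coe_sub, hz, hz']
        exact hW _ x.2 _ y.2
      have h' := Submodule.finrank_quotient_add_finrank (W.comap L.subtype)
      have h'' : finrank k (W.comap L.subtype) = finrank k W :=
        (Submodule.comapSubtypeEquivOfLe hWL).finrank_eq
      omega
  have hL2 : finrank k L ≤ finrank k (traceForms k A) := by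
    have h := key ⊥ fun x y z z' hz hz' => by
      rw [Submodule.mem_bot, sub_eq_zero]
      exact Subtype.ext (by rw [hz, hz', hcomm _ x.2 _ y.2])
    rwa [LinearEquiv.finrank_eq (Submodule.quotEquivOfEqBot (⊥ : Submodule k L) rfl)] at h
  refine ⟨e, finrank k L, hee, hL2, ?_, ?_⟩
  · -- the whole algebra
    let Φ : A →ₗ[k] (Fin n → Fin n → L) := LinearMap.pi fun i => LinearMap.pi fun l =>
      ((LinearMap.mulRight k (w l)).comp (LinearMap.mulLeft k (u i))).codRestrict L fun x =>
        hcorner x i l
    have hbij : Function.Bijective Φ := by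
      constructor
      · intro x y h
        have hil : ∀ i l, u i * x * w l = u i * y * w l := fun i l =>
          congrArg Subtype.val (congrFun (congrFun h i) l)
        have hexp : ∀ z, z = ∑ i, ∑ l, w i * (u i * z * w l) * u l := fun z => by
          conv_lhs => rw [← one_mul z, ← mul_one (1 * z), ← hf.complete]
          simp only [Finset.sum_mul, Finset.mul_sum, ← (huw _).2.2.2.2.2, mul_assoc]
          exact Finset.sum_comm
        rw [hexp x, hexp y]
        exact Finset.sum_congr rfl fun i _ => Finset.sum_congr rfl fun l _ => by rw [hil]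
      · intro q
        refine ⟨∑ i, ∑ l, w i * (q i l : A) * u l, funext fun i₀ => funext fun l₀ => Subtype.ext ?_⟩
        show u i₀ * (∑ i, ∑ l, w i * (q i l : A) * u l) * w l₀ = q i₀ l₀
        have hz : ∀ i l, i ≠ l → u i * w l = 0 := fun i l hil => by
          rw [← (huw i).2.1, ← (huw l).2.2.1, mul_assoc, ← mul_assoc (f i), hf.ortho hil, zero_mul,
            mul_zero]
        simp only [Finset.mul_sum, Finset.sum_mul]
        rw [Finset.sum_eq_single i₀, Finset.sum_eq_single l₀]
        · rw [← mul_assoc (u i₀), ← mul_assoc (u i₀), (huw i₀).2.2.2.2.1, mul_assoc _ (u l₀),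
            (huw l₀).2.2.2.2.1, (q i₀ l₀).2.1, (q i₀ l₀).2.2]
        · intro l _ hl
          rw [← mul_assoc (u i₀), mul_assoc _ (u l), hz l l₀ hl, mul_zero]
        · simp
        · intro i _ hi
          refine Finset.sum_eq_zero fun l _ => ?_
          rw [← mul_assoc (u i₀), ← mul_assoc (u i₀), hz i₀ i (Ne.symm hi)]
          simp
        · simp
    rw [(LinearEquiv.ofBijective Φ hbij).finrank_eq]
    simp [Module.finrank_pi_fintype]
    ring
  · let Φ : LinearMap.range (LinearMap.mulRight k e) →ₗ[k] (Fin n → L) := LinearMap.pi fun i =>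
      ((LinearMap.mulLeft k (u i)).comp (LinearMap.range (LinearMap.mulRight k e)).subtype).codRestrict
        L fun x => by
          obtain ⟨z, hz⟩ := x.2
          have hx : (x : A) = z * e := hz.symm
          refine ⟨?_, ?_⟩ <;> simp only [LinearMap.comp_apply, Submodule.subtype_apply,
            LinearMap.mulLeft_apply, hx]
          · rw [← mul_assoc, (huw i).1]
          · rw [mul_assoc, mul_assoc, hee]
    have hbij : Function.Bijective Φ := by
      constructor
      · intro x y h
        have hi : ∀ i, u i * (x : A) = u i * y := fun i => congrArg Subtype.val (congrFun h i)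
        refine Subtype.ext ?_
        rw [← one_mul (x : A), ← one_mul (y : A), ← hf.complete, Finset.sum_mul, Finset.sum_mul]
        exact Finset.sum_congr rfl fun i _ => by rw [← (huw i).2.2.2.2.2, mul_assoc, mul_assoc, hi]
      · intro q
        refine ⟨⟨(∑ i, w i * (q i : A)) * e, ⟨_, rfl⟩⟩, funext fun i₀ => Subtype.ext ?_⟩
        show u i₀ * ((∑ i, w i * (q i : A)) * e) = q i₀
        rw [Finset.sum_mul, Finset.mul_sum, Finset.sum_eq_single i₀]
        · rw [mul_assoc, (q i₀).2.2, ← mul_assoc, (huw i₀).2.2.2.2.1, (q i₀).2.1]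
        · intro i _ hi
          rw [← mul_assoc, ← mul_assoc, ← (huw i₀).2.1, ← (huw i).2.2.1, mul_assoc (u i₀),
            ← mul_assoc (f i₀), hf.ortho (Ne.symm hi)]
          simp
        · simp
    rw [(LinearEquiv.ofBijective Φ hbij).finrank_eq]
    simp [Module.finrank_pi_fintype]
    ring

end Cfsg.Agent.BlockFour
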