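import Cfsg.Agent.Lib.BlockTwo.Algebra

/-!
# Local symmetric algebras with few independent trace forms

`comm_of_local`: a local symmetric algebra, given as a corner `L` with radical `J`, is commutative
when the commutators leave a complement of dimension at most four.
-/

set_option autoImplicit false

namespace Cfsg.Agent.BlockFour

open Module

variable {k : Type*} [Field k] {A : Type*} [Ring A] [Algebra k A]

/-- An element of a nilpotent product dies one step further. -/
theorem mul_mem_pow_add {J : Submodule k A} {i j : ℕ} {x y : A} (hx : x ∈ J ^ i) (hy : y ∈ J ^ j) :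
    x * y ∈ J ^ (i + j) := by
  rw [pow_add]
  exact Submodule.mul_mem_mul hx hy

theorem pow_le_pow_of_mul_le {J : Submodule k A} (hJJ : J * J ≤ J) {i j : ℕ} (hi : 1 ≤ i)
    (hij : i ≤ j) : J ^ j ≤ J ^ i := by
  induction j, hij using Nat.le_induction with
  | base => exact le_rfl
  | succ j hij ih =>
    refine le_trans ?_ ih
    obtain ⟨m, rfl⟩ : ∃ m, j = m + 1 := ⟨j - 1, by omega⟩
    rw [pow_succ, pow_succ, mul_assoc]
    exact mul_le_mul' le_rfl hJJ

/-- A radical generated by one element modulo its square is commutative. -/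
theorem comm_of_gen {J : Submodule k A} {N : ℕ} (hN : J ^ N = ⊥) {a : A} (ha : a ∈ J)
    (hgen : J ≤ Submodule.span k {a} ⊔ J * J) : ∀ x ∈ J, ∀ y ∈ J, x * y = y * x := by
  let P : Submodule k A := Subalgebra.toSubmodule (Algebra.adjoin k {a})
  have haP : a ∈ P := Algebra.self_mem_adjoin_singleton k a
  have hsP : Submodule.span k {a} ≤ P := (Submodule.span_singleton_le_iff_mem _ _).mpr haP
  have hstep : ∀ m : ℕ, J ^ (m + 1) ≤ P ⊔ J ^ (m + 2) := by
    intro m
    induction m with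
    | zero =>
      rw [pow_one, pow_two]
      exact hgen.trans (sup_le_sup_right hsP _)
    | succ m ih =>
      calc J ^ (m + 2) = J * J ^ (m + 1) := pow_succ' J (m + 1)
        _ ≤ (Submodule.span k {a} ⊔ J * J) * J ^ (m + 1) := mul_le_mul' hgen le_rfl
        _ = Submodule.span k {a} * J ^ (m + 1) ⊔ J * J * J ^ (m + 1) := Submodule.sup_mul ..
        _ ≤ P ⊔ J ^ (m + 3) := by
          refine sup_le ?_ ?_
          · refine (mul_le_mul' le_rfl ih).trans ?_
            rw [Submodule.mul_sup]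
            refine sup_le ?_ ?_
            · refine le_sup_of_le_left (Submodule.mul_le.mpr fun x hx y hy => ?_)
              exact Subalgebra.mul_mem _ (hsP hx) hy
            · refine le_sup_of_le_right ?_
              rw [pow_succ' J (m + 2)]
              exact mul_le_mul' ((Submodule.span_singleton_le_iff_mem _ _).mpr ha) le_rfl
          · refine le_sup_of_le_right (le_of_eq ?_)
            rw [← pow_two, ← pow_add]
            congr 1
            omega
  have hJP : J ≤ P := by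
    have h : ∀ m : ℕ, J ≤ P ⊔ J ^ (m + 1) := by
      intro m
      induction m with
      | zero => rw [pow_one]; exact le_sup_right
      | succ m ih => exact ih.trans (sup_le le_sup_left (hstep m))
    have := h N
    rwa [pow_succ, hN, Submodule.bot_mul, sup_bot_eq] at this
  intro x hx y hy
  exact congrArg Subtype.val
    (mul_comm (⟨x, hJP hx⟩ : Algebra.adjoin k {a}) ⟨y, hJP hy⟩)

/-- Local symmetric algebras with at most four independent trace forms are commutative. -/
theorem comm_of_local [FiniteDimensional k A] {e : A} {L J : Submodule k A} (heL : e ∈ L)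
    (hJL : J ≤ L) (hid : ∀ x ∈ L, e * x = x ∧ x * e = x) (hJJ : J * J ≤ J) {N : ℕ}
    (hN : J ^ N = ⊥) (hscal : ∀ x ∈ L, ∃ c : k, x - c • e ∈ J) (he : e ∉ J) (τ : Dual k A)
    (hsymm : ∀ a b, τ (a * b) = τ (b * a))
    (hnd : ∀ x ∈ L, (∀ y ∈ L, τ (x * y) = 0) → x = 0)
    (hbd : ∀ W : Submodule k A, W ≤ L → (∀ x ∈ L, ∀ y ∈ L, x * y - y * x ∈ W) →
      finrank k L ≤ finrank k W + 4) :
    ∀ x ∈ L, ∀ y ∈ L, x * y = y * x := by
  suffices hJc : ∀ x ∈ J, ∀ y ∈ J, x * y = y * x by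
    intro x hx y hy
    obtain ⟨c, hc⟩ := hscal x hx
    obtain ⟨d, hd⟩ := hscal y hy
    have h := hJc _ hc _ hd
    simp only [sub_mul, mul_sub, smul_mul_assoc, mul_smul_comm, (hid x hx).1, (hid x hx).2,
      (hid y hy).1, (hid y hy).2, (hid e heL).1, smul_sub, smul_smul, mul_comm c d] at h
    have e1 : x * y - c • y - (d • x - (d * c) • e) - (y * x - d • x - (c • y - (d * c) • e))
        = x * y - y * x := by abel
    exact sub_eq_zero.mp (e1.symm.trans (sub_eq_zero.mpr h))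
  by_cases hzero : ∀ x ∈ J, ∀ y ∈ J, x * y = 0
  · exact fun x hx y hy => by rw [hzero x hx y hy, hzero y hy x hx]
  -- the last non-zero power
  classical
  have hex : ∃ m, J ^ (m + 1) = ⊥ := ⟨N, by rw [pow_succ, hN, Submodule.bot_mul]⟩
  set n := Nat.find hex with hn
  have hn1 : J ^ (n + 1) = ⊥ := Nat.find_spec hex
  have hkill : ∀ {i j : ℕ} {x y : A}, x ∈ J ^ i → y ∈ J ^ j → n + 1 ≤ i + j → x * y = 0 := by
    intro i j x y hx hy hij
    have h := pow_le_pow_of_mul_le hJJ (Nat.le_add_left 1 n) hij (mul_mem_pow_add hx hy)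
    rw [hn1] at h
    exact (Submodule.mem_bot k).mp h
  have hJne : J ^ n ≠ ⊥ ∧ 2 ≤ n := by
    have h2 : 2 ≤ n := by
      by_contra hlt
      refine hzero fun x hx y hy => hkill (i := 1) (j := 1) ?_ ?_ (by omega) <;> rwa [pow_one]
    refine ⟨fun h => Nat.find_min hex (show n - 1 < n by omega) ?_, h2⟩
    rw [show n - 1 + 1 = n by omega]
    exact h
  obtain ⟨hne, h2⟩ := hJne
  obtain ⟨s, hs, hs0⟩ := (Submodule.ne_bot_iff _).mp hne
  have hnJ : J ^ n ≤ J := (pow_le_pow_of_mul_le hJJ le_rfl (by omega)).trans_eq (pow_one J)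
  have hmulS : ∀ x ∈ J ^ n, ∀ y ∈ L, ∃ c : k, x * y = c • x := by
    intro x hx y hy
    obtain ⟨c, hc⟩ := hscal y hy
    refine ⟨c, ?_⟩
    have h := hkill (i := n) (j := 1) hx (by rwa [pow_one]) le_rfl
    rwa [mul_sub, mul_smul_comm, (hid x (hJL (hnJ hx))).2, sub_eq_zero] at h
  have hτs : ∀ x ∈ J ^ n, τ x = 0 → x = 0 := fun x hx h0 =>
    hnd x (hJL (hnJ hx)) fun y hy => by
      obtain ⟨c, hc⟩ := hmulS x hx y hy
      rw [hc, map_smul, h0, smul_zero]
  have hts : τ s ≠ 0 := fun h => hs0 (hτs s hs h)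
  have hline : J ^ n ≤ Submodule.span k {s} := fun x hx => by
    refine Submodule.mem_span_singleton.mpr ⟨τ x / τ s, (sub_eq_zero.mp ?_).symm⟩
    refine hτs _ (Submodule.sub_mem _ hx (Submodule.smul_mem _ _ hs)) ?_
    rw [map_sub, map_smul, smul_eq_mul, div_mul_cancel₀ _ hts, sub_self]
  -- the commutators
  let C : Submodule k A := Submodule.span k {z | ∃ x ∈ J, ∃ y ∈ J, z = x * y - y * x}
  have hCmem : ∀ x ∈ J, ∀ y ∈ J, x * y - y * x ∈ C := fun x hx y hy =>
    Submodule.subset_span ⟨x, hx, y, hy, rfl⟩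
  have hCτ : ∀ z ∈ C, τ z = 0 := fun z hz => by
    have hle : C ≤ LinearMap.ker τ := Submodule.span_le.mpr (by
      rintro _ ⟨x, -, y, -, rfl⟩
      simp [hsymm x y])
    exact hle hz
  have hCJ : C ≤ J ^ 2 := Submodule.span_le.mpr (by
    rintro _ ⟨x, hx, y, hy, rfl⟩
    rw [pow_two]
    exact Submodule.sub_mem _ (Submodule.mul_mem_mul hx hy) (Submodule.mul_mem_mul hy hx))
  have hsC : s ∉ C := fun h => hts (hCτ s h)
  -- two steps: all commutators vanish
  rcases h2.eq_or_lt with h2' | h3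
  · intro x hx y hy
    have h := hτs (x * y - y * x) (h2' ▸ hCJ (hCmem x hx y hy)) (hCτ _ (hCmem x hx y hy))
    exact sub_eq_zero.mp h
  have hJ2J : J ^ 2 ≤ J := (pow_le_pow_of_mul_le hJJ le_rfl (by omega)).trans_eq (pow_one J)
  by_cases hone : ∃ a ∈ J, J ≤ Submodule.span k {a} ⊔ J * J
  · obtain ⟨a, ha, hgen⟩ := hone
    exact comm_of_gen hN ha hgen
  exfalso
  push Not at hone
  obtain ⟨a, ha, -⟩ := SetLike.not_le_iff_exists.mp (hone 0 J.zero_mem)
  obtain ⟨b, hb, hb'⟩ := SetLike.not_le_iff_exists.mp (hone a ha)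
  obtain ⟨a₁, ha₁, ha₁'⟩ : ∃ a₁ ∈ J, a₁ ∉ J ^ 2 := by
    refine ⟨b, hb, fun h => hb' (Submodule.mem_sup_right ?_)⟩
    rwa [← pow_two]
  -- the dimensions
  have hCbound : finrank k L ≤ finrank k C + 4 := by
    refine hbd C (hCJ.trans (hJ2J.trans hJL)) fun x hx y hy => ?_
    obtain ⟨c, hc⟩ := hscal x hx
    obtain ⟨d, hd⟩ := hscal y hy
    have : x * y - y * x = (x - c • e) * (y - d • e) - (y - d • e) * (x - c • e) := by
      simp only [sub_mul, mul_sub, smul_mul_assoc, mul_smul_comm, (hid x hx).1, (hid x hx).2,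
        (hid y hy).1, (hid y hy).2, (hid e heL).1, smul_sub, smul_smul, mul_comm c d]
      abel
    rw [this]
    exact hCmem _ hc _ hd
  have hJlt : finrank k J < finrank k L :=
    Submodule.finrank_lt_finrank_of_lt (lt_of_le_of_ne hJL fun h => he (h ▸ heL))
  have hCs : finrank k C + 1 ≤ finrank k (J ^ 2 : Submodule k A) := by
    have hlt : C < J ^ 2 := lt_of_le_of_ne hCJ fun h => hsC (by
      rw [h]
      exact pow_le_pow_of_mul_le hJJ (by omega) (by omega) hs)
    exact Submodule.finrank_lt_finrank_of_lt hlt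
  obtain ⟨a, ha, b, hb, hJ2⟩ : ∃ a ∈ J, ∃ b ∈ J, J ≤ Submodule.span k {a, b} ⊔ J ^ 2 := by
    obtain ⟨b, hb, hb'⟩ := SetLike.not_le_iff_exists.mp (hone a₁ ha₁)
    refine ⟨a₁, ha₁, b, hb, ?_⟩
    have h1 : J ^ 2 < Submodule.span k {a₁} ⊔ J ^ 2 :=
      lt_of_le_of_ne le_sup_right fun h => ha₁' (h ▸
        Submodule.mem_sup_left (Submodule.mem_span_singleton_self a₁))
    have h2 : Submodule.span k {a₁} ⊔ J ^ 2 < Submodule.span k {a₁, b} ⊔ J ^ 2 :=
      lt_of_le_of_ne (sup_le_sup_right (Submodule.span_mono (by simp)) _) fun h => hb' (by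
        rw [← pow_two, h]
        exact Submodule.mem_sup_left (Submodule.subset_span (by simp)))
    have hle : Submodule.span k {a₁, b} ⊔ J ^ 2 ≤ J := sup_le (Submodule.span_le.mpr (by
      rintro x (rfl | rfl)
      exacts [ha₁, hb])) hJ2J
    have e1 := Submodule.finrank_lt_finrank_of_lt h1
    have e2 := Submodule.finrank_lt_finrank_of_lt h2
    exact (Submodule.eq_of_le_of_finrank_le hle (by omega)).ge
  have hJ2C : J ^ 2 ≤ C ⊔ Submodule.span k {s} := by
    have hle : C ⊔ Submodule.span k {s} ≤ J ^ 2 := sup_le hCJ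
      ((Submodule.span_singleton_le_iff_mem _ _).mpr
        (pow_le_pow_of_mul_le hJJ (by omega) (by omega) hs))
    refine (Submodule.eq_of_le_of_finrank_le hle ?_).ge
    have e1 : finrank k C < finrank k (C ⊔ Submodule.span k {s} : Submodule k A) :=
      Submodule.finrank_lt_finrank_of_lt (lt_of_le_of_ne le_sup_left fun h => hsC (h ▸
        Submodule.mem_sup_right (Submodule.mem_span_singleton_self s)))
    have h1 : J ^ 2 < Submodule.span k {a₁} ⊔ J ^ 2 :=
      lt_of_le_of_ne le_sup_right fun h => ha₁' (h ▸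
        Submodule.mem_sup_left (Submodule.mem_span_singleton_self a₁))
    obtain ⟨b', hb', hb''⟩ := SetLike.not_le_iff_exists.mp (hone a₁ ha₁)
    have h2 : Submodule.span k {a₁} ⊔ J ^ 2 < J :=
      lt_of_le_of_ne (sup_le ((Submodule.span_singleton_le_iff_mem _ _).mpr ha₁) hJ2J) fun h =>
        hb'' (by rw [← pow_two, h]; exact hb')
    have e2 := Submodule.finrank_lt_finrank_of_lt h1
    have e3 := Submodule.finrank_lt_finrank_of_lt h2
    omega
  -- the products modulo the cube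
  set c := a * b - b * a with hc
  have hJ3 : ∀ {x y : A}, x ∈ J → y ∈ J ^ 2 → x * y ∈ J ^ 3 ∧ y * x ∈ J ^ 3 := fun hx hy =>
    ⟨mul_mem_pow_add (i := 1) (by rwa [pow_one]) hy,
      mul_mem_pow_add (i := 2) hy (j := 1) (by rwa [pow_one])⟩
  have hgenab : ∀ x ∈ J, ∃ α β : k, x - α • a - β • b ∈ J ^ 2 := by
    intro x hx
    obtain ⟨u, hu, w, hw, rfl⟩ := Submodule.mem_sup.mp (hJ2 hx)
    obtain ⟨α, β, rfl⟩ := Submodule.mem_span_pair.mp hu
    exact ⟨α, β, by convert hw using 1; abel⟩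
  have hCc : C ≤ Submodule.span k {c} ⊔ J ^ 3 := by
    refine Submodule.span_le.mpr ?_
    rintro _ ⟨x, hx, y, hy, rfl⟩
    obtain ⟨α, β, hx'⟩ := hgenab x hx
    obtain ⟨γ, δ, hy'⟩ := hgenab y hy
    have hE : x * y - y * x - (α * δ - β * γ) • c =
        ((x - α • a - β • b) * y + (α • a + β • b) * (y - γ • a - δ • b)) -
          (y * (x - α • a - β • b) + (y - γ • a - δ • b) * (α • a + β • b)) := by
      rw [hc]
      simp only [mul_add, add_mul, mul_sub, sub_mul, smul_mul_assoc, mul_smul_comm, smul_sub,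
        smul_add, smul_smul, sub_smul, mul_comm γ α, mul_comm γ β, mul_comm δ α, mul_comm δ β]
      abel
    have hab : α • a + β • b ∈ J := J.add_mem (J.smul_mem _ ha) (J.smul_mem _ hb)
    rw [SetLike.mem_coe, ← sub_add_cancel (x * y - y * x) ((α * δ - β * γ) • c), add_comm]
    refine Submodule.add_mem_sup (Submodule.smul_mem _ _ (Submodule.mem_span_singleton_self c)) ?_
    rw [hE]
    exact Submodule.sub_mem _ (Submodule.add_mem _ (hJ3 hy hx').2 (hJ3 hab hy').1)
      (Submodule.add_mem _ (hJ3 hy hx').1 (hJ3 hab hy').2)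
  have hJ2c : J ^ 2 ≤ Submodule.span k {c} ⊔ J ^ 3 := hJ2C.trans (sup_le hCc (le_sup_of_le_right
    ((Submodule.span_singleton_le_iff_mem _ _).mpr (pow_le_pow_of_mul_le hJJ (by omega) h3 hs))))
  have hc3 : c ∉ J ^ 3 := fun h => by
    have h23 : J ^ 2 ≤ J ^ 3 := hJ2c.trans (sup_le
      ((Submodule.span_singleton_le_iff_mem _ _).mpr h) le_rfl)
    have hall : ∀ m, J ^ 2 ≤ J ^ (m + 2) := by
      intro m
      induction m with
      | zero => exact le_rfl
      | succ m ih =>
        refine h23.trans ?_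
        rw [pow_succ, pow_succ J (m + 2)]
        exact mul_le_mul' ih le_rfl
    have hsm := hall n (pow_le_pow_of_mul_le hJJ (by omega) (by omega) hs)
    have hle := pow_le_pow_of_mul_le hJJ (i := n + 1) (j := n + 2) (by omega) (by omega) hsm
    rw [hn1, Submodule.mem_bot] at hle
    exact hs0 hle
  have hβex : ∀ x y : A, x ∈ J → y ∈ J → ∃ t : k, x * y - t • c ∈ J ^ 3 := fun x y hx hy => by
    have h : x * y ∈ J ^ 2 := by rw [pow_two]; exact Submodule.mul_mem_mul hx hy
    obtain ⟨u, hu, w, hw, he⟩ := Submodule.mem_sup.mp (hJ2c h)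
    obtain ⟨t, rfl⟩ := Submodule.mem_span_singleton.mp hu
    exact ⟨t, by rw [← he, add_sub_cancel_left]; exact hw⟩
  choose β hβ using fun (x y : J) => hβex x y x.2 y.2
  -- a non-zero value
  have h3n : n + 1 = 3 + (n - 2) := by omega
  obtain ⟨g, m, hm, hgm⟩ : ∃ (g : J) (m : A), m ∈ J ^ (n - 3) ∧ τ (c * g * m) ≠ 0 := by
    by_contra hcon
    push Not at hcon
    have h1 : ∀ z ∈ J ^ (n - 2), τ (c * z) = 0 := by
      have hle : J * J ^ (n - 3) ≤ LinearMap.ker (τ.comp (LinearMap.mulLeft k c)) :=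
        Submodule.mul_le.mpr fun g hg m hm => by
          rw [LinearMap.mem_ker, LinearMap.comp_apply, LinearMap.mulLeft_apply, ← mul_assoc]
          exact hcon ⟨g, hg⟩ m hm
      intro z hz
      rw [show n - 2 = (n - 3) + 1 by omega, pow_succ'] at hz
      exact hle hz
    refine hts ?_
    have hle : J ^ 2 * J ^ (n - 2) ≤ LinearMap.ker τ := Submodule.mul_le.mpr fun u hu z hz => by
      obtain ⟨u₁, hu₁, w, hw, rfl⟩ := Submodule.mem_sup.mp (hJ2c hu)
      obtain ⟨t, rfl⟩ := Submodule.mem_span_singleton.mp hu₁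
      rw [LinearMap.mem_ker, add_mul, map_add, smul_mul_assoc, map_smul, h1 z hz, smul_zero,
        zero_add, hkill hw hz h3n.le, map_zero]
    refine hle ?_
    rw [← pow_add, show 2 + (n - 2) = n by omega]
    exact hs
  let φ : J → k := fun d => τ (c * d * m)
  let ψ : J → k := fun x => τ (c * (m * x))
  have hrel : ∀ x y d : J, β x y * φ d = β y d * ψ x := by
    intro x y d
    have hd : (d : A) * m ∈ J ^ (n - 2) := by
      rw [show n - 2 = 1 + (n - 3) by omega]
      exact mul_mem_pow_add (by rw [pow_one]; exact d.2) hm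
    have hx : m * (x : A) ∈ J ^ (n - 2) := by
      rw [show n - 2 = (n - 3) + 1 by omega]
      exact mul_mem_pow_add hm (by rw [pow_one]; exact x.2)
    have e1 : τ ((x : A) * y * d * m) = β x y * φ d := by
      have h := hkill (hβ x y) hd h3n.le
      rw [sub_mul, smul_mul_assoc, sub_eq_zero, ← mul_assoc, ← mul_assoc] at h
      rw [h, map_smul, smul_eq_mul]
    have e2 : τ ((y : A) * d * (m * x)) = β y d * ψ x := by
      have h := hkill (hβ y d) hx h3n.le
      rw [sub_mul, smul_mul_assoc, sub_eq_zero] at h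
      rw [h, map_smul, smul_eq_mul]
    rw [← e1, ← e2, mul_assoc (x : A) y, mul_assoc (x : A), hsymm (x : A), mul_assoc]
  have hanti : β ⟨a, ha⟩ ⟨b, hb⟩ - β ⟨b, hb⟩ ⟨a, ha⟩ = 1 := by
    by_contra hne1
    have h : ((1 : k) - (β ⟨a, ha⟩ ⟨b, hb⟩ - β ⟨b, hb⟩ ⟨a, ha⟩)) • c ∈ J ^ 3 := by
      have h := Submodule.sub_mem _ (hβ ⟨a, ha⟩ ⟨b, hb⟩) (hβ ⟨b, hb⟩ ⟨a, ha⟩)
      have e1 : a * b - β ⟨a, ha⟩ ⟨b, hb⟩ • c - (b * a - β ⟨b, hb⟩ ⟨a, ha⟩ • c) =
          ((1 : k) - (β ⟨a, ha⟩ ⟨b, hb⟩ - β ⟨b, hb⟩ ⟨a, ha⟩)) • c := by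
        rw [hc]
        simp only [sub_smul, one_smul]
        abel
      rwa [e1] at h
    exact hc3 (by
      have := Submodule.smul_mem _ ((1 : k) - (β ⟨a, ha⟩ ⟨b, hb⟩ - β ⟨b, hb⟩ ⟨a, ha⟩))⁻¹ h
      rwa [smul_smul, inv_mul_cancel₀ (sub_ne_zero.mpr (Ne.symm hne1)), one_smul] at this)
  have hg0 : φ g ≠ 0 := hgm
  have hmul : ∀ x y : J, β x y * φ g = ψ x * β y g := fun x y => (hrel x y g).trans (mul_comm _ _)
  have hlam : ∀ y : J, β y g * φ g = ψ y * β g g := by
    intro y
    exact hmul y g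
  have hsym : ∀ x y : J, β x y * φ g * φ g = ψ x * ψ y * β g g := fun x y => by
    rw [hmul, mul_assoc, hlam, mul_assoc]
  have h := hsym ⟨a, ha⟩ ⟨b, hb⟩
  rw [mul_comm (ψ ⟨a, ha⟩), ← hsym ⟨b, hb⟩ ⟨a, ha⟩] at h
  rw [mul_right_cancel₀ hg0 (mul_right_cancel₀ hg0 h), sub_self] at hanti
  exact zero_ne_one hanti

end Cfsg.Agent.BlockFour
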