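import Cfsg.Agent.Lib.BlockFour.Rank

/-!
# Blocks with one simple module and at most four characters
-/

set_option autoImplicit false
set_option linter.style.haveILetI false
set_option synthInstance.maxHeartbeats 200000
set_option maxHeartbeats 1000000

namespace Cfsg.Agent.BlockFour

open Cfsg Cfsg.Agent.Blocks Cfsg.Agent.BrauerPairs Cfsg.Agent.BlockTwo Module

variable {G : Type*} [Group G] [Finite G] {p : ℕ} {M : Ideal AlgInt}

/-- The key count: one simple module and at most four characters. -/
theorem exists_dims_of_rank_one (hM : IsPModular p M) {B : Set (IrrCharacter G)} (hB : IsPBlock M B)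
    (hl : blockRank p B = 1) (h2 : Nat.card B ≤ 4) :
    ∃ n c : ℕ, c ≤ Nat.card B ∧ degSum B = c * (n * n) ∧ p ^ (Nat.card G).factorization p ∣ c * n := by
  classical
  letI := ModRep.resField hM
  haveI := res_charP hM
  haveI : Fact p.Prime := ⟨hM.1⟩
  haveI := ModRep.isAlgClosed_res hM
  have := Fintype.ofFinite G
  haveI : Module.Finite (Res M) (MonoidAlgebra (Res M) G) :=
    Module.Finite.of_basis (MonoidAlgebra.basis G (Res M))
  set e := blk M B with he
  have hec : ∀ a, a * e = e * a := fun a => ((fixed_blk B).commute SuppIn.top).symm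
  have hee : e * e = e := blk_mul_self hM hB
  let I : Ideal (MonoidAlgebra (Res M) G) :=
    { carrier := {a | a * e = 0}
      zero_mem' := zero_mul e
      add_mem' := fun {a b} (ha : a * e = 0) (hb : b * e = 0) =>
        show (a + b) * e = 0 by rw [add_mul, ha, hb, add_zero]
      smul_mem' := fun c a (ha : a * e = 0) =>
        show c * a * e = 0 by rw [mul_assoc, ha, mul_zero] }
  have hImem : ∀ a, a ∈ I ↔ a * e = 0 := fun a => Iff.rfl
  haveI : I.IsTwoSided := ⟨fun {a} b (ha : a * e = 0) =>
    show a * b * e = 0 by rw [mul_assoc, hec b, ← mul_assoc, ha, zero_mul]⟩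
  let A := MonoidAlgebra (Res M) G ⧸ I
  let q := Ideal.Quotient.mkₐ (Res M) I
  have hq : Function.Surjective q := Ideal.Quotient.mk_surjective
  have hqeq : ∀ a b, q a = q b ↔ a * e = b * e := fun a b => by
    show Ideal.Quotient.mk I a = Ideal.Quotient.mk I b ↔ _
    rw [Ideal.Quotient.mk_eq_mk_iff_sub_mem, hImem, sub_mul, sub_eq_zero]
  let s : A → MonoidAlgebra (Res M) G := fun x => Function.surjInv hq x * e
  have hs : ∀ a, s (q a) = a * e := fun a => (hqeq _ _).mp (Function.surjInv_eq hq (q a))
  have hqs : ∀ x, q (s x) = x := fun x => by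
    obtain ⟨a, rfl⟩ := hq x
    rw [hs, hqeq, mul_assoc, hee]
  let sL : A →ₗ[Res M] MonoidAlgebra (Res M) G :=
    { toFun := s
      map_add' := fun x y => by
        obtain ⟨a, rfl⟩ := hq x
        obtain ⟨b, rfl⟩ := hq y
        rw [← map_add, hs, hs, hs, add_mul]
      map_smul' := fun c x => by
        obtain ⟨a, rfl⟩ := hq x
        rw [← map_smul, hs, hs, RingHom.id_apply, smul_mul_assoc] }
  have hsinj : Function.Injective sL := fun x y h => by
    rw [← hqs x, ← hqs y]; exact congrArg q h
  haveI : Module.Finite (Res M) A := Module.Finite.of_surjective q.toLinearMap hq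
  haveI : Nontrivial A := ⟨⟨0, 1, fun h => blk_ne_zero hM hB (by
    have h' : q 0 = q 1 := by rw [map_zero, map_one]; exact h
    rw [hqeq, zero_mul, one_mul] at h'
    exact h'.symm)⟩⟩
  have hrange : LinearMap.range sL = LinearMap.range (LinearMap.mulRight (Res M) e) := by
    ext x
    constructor
    · rintro ⟨y, rfl⟩; exact ⟨_, rfl⟩
    · rintro ⟨a, rfl⟩; exact ⟨q a, hs a⟩
  have hdimA : finrank (Res M) A = degSum B := by
    rw [← LinearMap.finrank_range_of_inj hsinj, hrange, finrank_range_blk hM hB]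
  -- the symmetrising form
  let τ : Module.Dual (Res M) A := ((MonoidAlgebra.basis G (Res M)).coord 1).comp sL
  have hτ : ∀ a, τ (q a) = (a * e).coeff 1 := fun a => by
    show ((MonoidAlgebra.basis G (Res M)).coord 1) (s (q a)) = _
    rw [hs]; rfl
  have hsym0 : ∀ a b : MonoidAlgebra (Res M) G, (a * b).coeff 1 = (b * a).coeff 1 := fun a b => by
    rw [coeff_mul_eq_sum, coeff_mul_eq_sum]
    refine Fintype.sum_equiv (Equiv.inv G) _ _ fun y => ?_
    simp [mul_comm]
  have hsymm : ∀ x y : A, τ (x * y) = τ (y * x) := fun x y => by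
    obtain ⟨a, rfl⟩ := hq x
    obtain ⟨b, rfl⟩ := hq y
    rw [← map_mul, ← map_mul, hτ, hτ, mul_assoc, hec b, ← mul_assoc, hsym0, mul_assoc]
  have hnd : ∀ x : A, (∀ y, τ (x * y) = 0) → x = 0 := by
    intro x hx
    obtain ⟨a, rfl⟩ := hq x
    rw [← map_zero q, hqeq, zero_mul]
    refine MonoidAlgebra.ext (Finsupp.ext fun g => ?_)
    have h := hx (q (MonoidAlgebra.single g⁻¹ 1))
    rw [← map_mul, hτ, mul_assoc, hec, ← mul_assoc, MonoidAlgebra.coeff_mul_single_apply] at h
    simpa using h
  -- central elements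
  have hfix : ∀ x : A, (∀ y, y * x = x * y) → Fixed ⊤ (sL x) := by
    intro x hx u _
    obtain ⟨a, rfl⟩ := hq x
    show cj u (s (q a)) = s (q a)
    rw [hs]
    have hcm : ∀ b, b * (a * e) = a * e * b := fun b => by
      have h := hx (q b)
      rw [← map_mul, ← map_mul, hqeq] at h
      rw [← mul_assoc, h, mul_assoc, mul_assoc, hec]
    refine MonoidAlgebra.ext (Finsupp.ext fun g => ?_)
    rw [coeff_cj]
    have h1 := congrArg (fun z : MonoidAlgebra (Res M) G => z.coeff (g * u))
      (hcm (MonoidAlgebra.single u 1))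
    simp only [MonoidAlgebra.coeff_single_mul_apply, MonoidAlgebra.coeff_mul_single_apply, one_mul,
      mul_one, mul_inv_cancel_right] at h1
    rw [mul_assoc, h1]
  have hself : ∀ x, sL x * e = sL x := fun x => by
    show Function.surjInv hq x * e * e = Function.surjInv hq x * e
    rw [mul_assoc, hee]
  have hcenter : finrank (Res M) (Subalgebra.center (Res M) A) ≤ Nat.card B := by
    refine le_trans ?_ ((finrank_fixed_le hM hB
      ((Subalgebra.toSubmodule (Subalgebra.center (Res M) A)).map sL) ?_))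
    · rw [← LinearEquiv.finrank_eq (Submodule.equivMapOfInjective sL hsinj _)]
      rfl
    · rintro _ ⟨x, hx, rfl⟩
      exact ⟨hfix x ((Subalgebra.mem_center_iff (R := Res M)).mp hx), hself x⟩
  have hindec : ∀ z : A, (∀ y, y * z = z * y) → IsIdempotentElem z → z = 0 ∨ z = 1 := by
    intro z hz hzz
    obtain ⟨ξ, hξ⟩ := isPBlock_nonempty hM hB
    have hid : sL z * sL z = sL z := by
      obtain ⟨a, rfl⟩ := hq z
      have h : q (a * a) = q a := by rw [map_mul]; exact hzz
      rw [hqeq] at h
      show s (q a) * s (q a) = s (q a)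
      rw [hs, mul_assoc a e, ← mul_assoc e a, ← hec a, mul_assoc a e, hee, ← mul_assoc, h]
    rcases mul_blk_cases hM (hfix z hz) hid hB hξ with ⟨-, h⟩ | ⟨-, h⟩ <;>
      rw [← he, hself] at h
    · right
      rw [← hqs z, show s z = e from h, ← map_one q, hqeq, hee, one_mul]
    · left
      rw [← hqs z, show s z = 0 from h, map_zero]
  have hTF : finrank (Res M) (traceForms (Res M) A) ≤ Nat.card B :=
    (finrank_traceForms_le τ hsymm hnd).trans hcenter
  haveI : IsArtinianRing A := IsArtinianRing.of_finite (Res M) A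
  let J := Ring.jacobson A
  haveI : IsSemisimpleRing (A ⧸ J) := IsSemiprimaryRing.isSemisimpleRing
  obtain ⟨r, d, hd, ⟨E⟩⟩ :=
    IsSemisimpleRing.exists_algEquiv_pi_matrix_of_isAlgClosed (Res M) (A ⧸ J)
  let π : A →ₐ[Res M] ((i : Fin r) → Matrix (Fin (d i)) (Fin (d i)) (Res M)) :=
    E.toAlgHom.comp (Ideal.Quotient.mkₐ (Res M) J)
  have hπ : Function.Surjective π := E.surjective.comp Ideal.Quotient.mk_surjective
  have hJ : ∀ x, x ∈ J ↔ π x = 0 := fun x => by
    rw [← Ideal.Quotient.eq_zero_iff_mem]
    exact (map_eq_zero_iff E E.injective).symm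
  have hnil : IsNilpotent J := IsSemiprimaryRing.isNilpotent
  let πc : ∀ i, MonoidAlgebra (Res M) G →ₐ[Res M] Matrix (Fin (d i)) (Fin (d i)) (Res M) := fun i =>
    ((Pi.evalAlgHom (Res M) (fun i : Fin r => Matrix (Fin (d i)) (Fin (d i)) (Res M)) i).comp π).comp q
  have hπc : ∀ i a, πc i a = π (q a) i := fun i a => rfl
  have hr : r ≤ 1 := hl ▸ card_le_blockRank hM hB
    (fun i => (Matrix.traceLinearMap (Fin (d i)) (Res M) (Res M)).comp (πc i).toLinearMap)
    (fun i a b => by
      show Matrix.trace (πc i (a * b)) = Matrix.trace (πc i (b * a))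
      rw [map_mul, map_mul, Matrix.trace_mul_comm])
    (fun i a => by
      show Matrix.trace (πc i (a * e)) = Matrix.trace (πc i a)
      rw [hπc, hπc, show q (a * e) = q a from (hqeq _ _).mpr (by rw [mul_assoc, hee])])
    (fun c hc => by
      have hall : ∀ g, ∑ i, c i * Matrix.trace (πc i (MonoidAlgebra.single g 1)) = 0 := fun g => by
        obtain ⟨y, hy, htr⟩ := trace_regular (p := p) (Res M) g
        rw [← hc y hy]
        exact Finset.sum_congr rfl fun i _ => by rw [htr _ (πc i)]; rfl
      let F : MonoidAlgebra (Res M) G →ₗ[Res M] Res M :=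
        { toFun := fun a => ∑ i, c i * Matrix.trace (πc i a)
          map_add' := fun a b => by
            simp only [map_add, Matrix.trace_add, mul_add, Finset.sum_add_distrib]
          map_smul' := fun t a => by
            simp only [map_smul, Matrix.trace_smul, smul_eq_mul, Finset.mul_sum, RingHom.id_apply]
            exact Finset.sum_congr rfl fun i _ => mul_left_comm _ _ _ }
      have hlin : F = 0 := (MonoidAlgebra.basis G (Res M)).ext fun g => by
        rw [MonoidAlgebra.basis_apply]
        exact hall g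
      funext i
      haveI := hd i
      obtain ⟨x, hx⟩ := hπ (Pi.single i (Matrix.single 0 0 1))
      obtain ⟨a, rfl⟩ := hq x
      have h : ∑ j, c j * Matrix.trace (π (q a) j) = 0 := LinearMap.congr_fun hlin a
      rw [Finset.sum_eq_single i (fun j _ hj => by
          rw [hx, Pi.single_eq_of_ne hj, Matrix.trace_zero, mul_zero])
        (fun h => absurd (Finset.mem_univ _) h), hx, Pi.single_eq_same,
        Matrix.trace_single_eq_same, mul_one] at h
      exact h)
  obtain rfl : r = 1 := by
    rcases Nat.le_one_iff_eq_zero_or_eq_one.mp hr with rfl | h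
    · exfalso
      obtain ⟨N, hN⟩ := hnil
      exact not_isNilpotent_one (isNilpotent_of_mem ((hJ 1).mpr (Subsingleton.elim _ _)) hN)
    · exact h
  haveI := hd 0
  let π₁ : A →ₐ[Res M] Matrix (Fin (d 0)) (Fin (d 0)) (Res M) :=
    (Pi.evalAlgHom (Res M) (fun i : Fin 1 => Matrix (Fin (d i)) (Fin (d i)) (Res M)) 0).comp π
  have hπ₁ : ∀ x, π₁ x = π x 0 := fun _ => rfl
  obtain ⟨f, c, hf, hc, hdim, hdimf⟩ := exists_idempotent_of_one_simple τ hsymm hnd (hTF.trans h2) π₁
    (fun y => by
      obtain ⟨x, hx⟩ := hπ (Pi.single 0 y)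
      exact ⟨x, by rw [hπ₁, hx, Pi.single_eq_same]⟩)
    J (fun x => (hJ x).trans ⟨fun h => by rw [hπ₁, h]; rfl, fun h => funext fun i => by
      obtain rfl : i = 0 := Subsingleton.elim i 0
      rw [← hπ₁]; exact h⟩) hnil
  refine ⟨d 0, c, hc.trans hTF, by rw [← hdimA, hdim], ?_⟩
  -- a projective right ideal
  obtain ⟨a, rfl⟩ := hq f
  have hid : IsIdempotentElem (a * e) := by
    have h : q (a * a) = q a := by rw [map_mul]; exact hf
    rw [hqeq] at h
    show a * e * (a * e) = a * e
    rw [mul_assoc a e, ← mul_assoc e a, ← hec a, mul_assoc a e, hee, ← mul_assoc, h]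
  have hdvd := pow_dvd_finrank_mulRight (p := p) hid
  have heq : finrank (Res M) (LinearMap.range (LinearMap.mulRight (Res M) (a * e))) = c * d 0 := by
    rw [← hdimf]
    have hmap : (LinearMap.range (LinearMap.mulRight (Res M) (q a))).map sL =
        LinearMap.range (LinearMap.mulRight (Res M) (a * e)) := by
      ext x
      constructor
      · rintro ⟨_, ⟨y, rfl⟩, rfl⟩
        obtain ⟨b, rfl⟩ := hq y
        refine ⟨b, ?_⟩
        show b * (a * e) = s (q b * q a)
        rw [← map_mul, hs, mul_assoc]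
      · rintro ⟨b, rfl⟩
        refine ⟨q b * q a, ⟨q b, rfl⟩, ?_⟩
        show s (q b * q a) = b * (a * e)
        rw [← map_mul, hs, mul_assoc]
    rw [← hmap]
    exact (LinearEquiv.finrank_eq (Submodule.equivMapOfInjective sL hsinj _)).symm
  rwa [heq] at hdvd

end Cfsg.Agent.BlockFour
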