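import Cfsg.Agent.Lib.Blocks.Watanabe
import Cfsg.Agent.Lib.Blocks.HomocyclicTwo
import Cfsg.Agent.Lib.CycDefect.Setup

/-!
# Blocks with as many characters as the elements of a small defect group

* `mem_centralizer_of_fix_small`: the inertial quotient of a defect group of order at most four
  acts freely;
* `isNilpotentBlock_of_card`: if `l(B) = 1` and `k(B) = |D| ≤ 4` then `B` is nilpotent.
-/

set_option autoImplicit false

namespace Cfsg.Agent.BlockFour

open Cfsg Cfsg.Agent.Blocks Cfsg.Agent.BrauerPairs Cfsg.Agent.LocalRank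

variable {G : Type*} [Group G] [Finite G] {p : ℕ} [Fact p.Prime] {M : Ideal AlgInt}
  {B : Set (IrrCharacter G)} {P : Subgroup G}
  {e : Set (IrrCharacter (Subgroup.centralizer (P : Set G)))}

/-- A group of order at most four and prime power order is cyclic or elementary of order four. -/
theorem cyclic_or_exp_two (hP : IsPGroup p P) (h4 : Nat.card P ≤ 4) :
    IsCyclic P ∨ (p = 2 ∧ Nat.card P = 4 ∧ ∀ x ∈ P, x * x = 1) := by
  by_cases hcyc : IsCyclic P
  · exact Or.inl hcyc
  refine Or.inr ?_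
  obtain ⟨j, hj⟩ := hP.exists_card_eq
  have hp : p.Prime := Fact.out
  have hj2 : 2 ≤ j := by
    by_contra hlt
    interval_cases j
    · refine hcyc ?_
      have : Subsingleton P := (Nat.card_eq_one_iff_unique.mp (by rw [hj, pow_zero])).1
      infer_instance
    · exact hcyc (isCyclic_of_prime_card (p := p) (by rw [hj, pow_one]))
  have h2 : p ^ 2 ≤ 4 := (Nat.pow_le_pow_right hp.pos hj2).trans (hj ▸ h4)
  obtain rfl : p = 2 := le_antisymm (by nlinarith) hp.two_le
  obtain rfl : j = 2 := le_antisymm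
    ((Nat.pow_le_pow_iff_right (le_refl 2)).mp ((hj ▸ h4).trans_eq (by norm_num))) hj2
  refine ⟨rfl, hj, fun x hx => ?_⟩
  by_contra hne
  refine hcyc (isCyclic_of_orderOf_eq_card ⟨x, hx⟩ ?_)
  have hdvd : orderOf (⟨x, hx⟩ : P) ∣ 2 ^ 2 := hj ▸ orderOf_dvd_natCard _
  obtain ⟨i, hi, hoi⟩ := (Nat.dvd_prime_pow Nat.prime_two).mp hdvd
  rw [hoi, hj]
  by_contra hne4
  have hi1 : i ≤ 1 := by
    rcases Nat.eq_or_lt_of_le hi with rfl | h
    · exact absurd rfl hne4
    · omega
  refine hne ?_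
  have h := pow_orderOf_eq_one (⟨x, hx⟩ : P)
  rw [hoi] at h
  have h' : x ^ 2 ^ i = 1 := congrArg Subtype.val h
  interval_cases i
  · rw [pow_zero, pow_one] at h'
    rw [h', one_mul]
  · rwa [pow_one, sq] at h'

theorem comm_small (hP : IsPGroup p P) (h4 : Nat.card P ≤ 4) : ∀ x ∈ P, ∀ y ∈ P, x * y = y * x := by
  rcases cyclic_or_exp_two hP h4 with h | ⟨-, -, h⟩
  · exact CycDefect.comm_of_cyclic h
  · exact KleinDefect.abelian_of_mul_self h

/-- The inertial quotient of a defect group of order at most four acts freely. -/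
theorem mem_centralizer_of_fix_small (hM : IsPModular p M) (hmax : IsMaximalBrauerPair p M B P e)
    (h4 : Nat.card P ≤ 4) {t : G} (ht : t ∈ pairStab M P e) {u : G} (hu : u ∈ P) (hu1 : u ≠ 1)
    (htu : t * u * t⁻¹ = u) : t ∈ Subgroup.centralizer (P : Set G) := by
  rcases cyclic_or_exp_two hmax.1.1.1 h4 with h | ⟨h2, hc, hexp⟩
  · exact CycDefect.free hM hmax h ht hu hu1 htu
  · subst h2
    exact KleinDefect.mem_centralizer_of_fix hM hmax hc hexp ht hu hu1 htu

theorem lrank_small (hM : IsPModular p M) (hmax : IsMaximalBrauerPair p M B P e)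
    (h4 : Nat.card P ≤ 4) {v : G} (hv : v ∈ P) (hv1 : v ≠ 1) :
    lrank p M P e (Subgroup.zpowers v) = 1 := by
  have hab := comm_small hmax.1.1.1 h4
  have hQP : Subgroup.zpowers v ≤ P := Subgroup.zpowers_le.2 hv
  obtain ⟨f, hf, hle⟩ := exists_subpair hM hmax.1.1 hQP
  rw [lrank_eq hM hmax.1.1 hle]
  obtain ⟨P', e', hmax', hmap, hst, -⟩ := Watanabe.exists_down hM hmax hab hQP hf hle
  subst hmap
  have := Fintype.ofFinite (Subgroup.centralizer (Subgroup.zpowers v : Set G))
  refine CycDefect.blockRank_of_nilpotent hM ?_ (maximal_isDefectGroup hM hmax')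
  rw [S4687.result p M hM f P' e' hmax' fun x hx y hy => Subtype.ext
    (hab _ (Subgroup.mem_map_of_mem _ hx) _ (Subgroup.mem_map_of_mem _ hy))]
  intro g hgN hgst
  have hg := (hst g).1 ((mem_pairStab_iff hM hmax'.1.1.2).2 ⟨hgN, hgst⟩)
  refine (mem_centralizer_sub_iff P' g).2 (mem_centralizer_of_fix_small hM hmax h4 hg hv hv1 ?_)
  rw [← (SecondMain.mem_centralizer_zpowers_iff.1 g.2).eq, mul_inv_cancel_right]

/-- If `l(B) = 1` and `k(B) = |D| ≤ 4`, the block is nilpotent. -/
theorem isNilpotentBlock_of_card (hM : IsPModular p M) (hB : IsPBlock M B) {D : Subgroup G}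
    (hD : IsDefectGroup p M B D) (h4 : Nat.card D ≤ 4) (hl : blockRank p B = 1)
    (hk : Nat.card B = Nat.card D) : IsNilpotentBlock p M B := by
  classical
  obtain ⟨e, he⟩ := exists_pair_of_defectGroup hM hB hD
  have hmax := isMaximal_of_isDefectGroup hM he hD
  have hab := comm_small hmax.1.1.1 h4
  have := Fintype.ofFinite G
  have := Fintype.ofFinite D
  rw [S4687.result p M hM B D e hmax hab]
  have hone : ∀ v : D, lrank p M D e (Subgroup.zpowers (v : G)) = 1 := fun v => by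
    by_cases hv : (v : G) = 1
    · rw [hv, lrank_one hM hmax, hl]
    · exact lrank_small hM hmax h4 v.2 hv
  have hsum := Watanabe.card_eq_sum hM hmax hab
  simp only [hone, Nat.cast_one, mul_one, Watanabe.wt, hk] at hsum
  rw [Nat.card_eq_fintype_card] at hsum
  have hsum' : (∑ v : D, ((Watanabe.orb M D e v).card : ℝ)⁻¹) = ∑ v : D, (1 : ℝ) := by
    apply Complex.ofReal_injective
    push_cast
    rw [← hsum]
    simp
  have hle : ∀ v : D, ((Watanabe.orb M D e v).card : ℝ)⁻¹ ≤ 1 := fun v => inv_le_one_of_one_le₀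
    (Nat.one_le_cast.2 (Finset.card_pos.2 ⟨v, Watanabe.self_mem_orb v⟩))
  have heq := (Finset.sum_eq_sum_iff_of_le fun v _ => hle v).1 hsum'
  intro g hgN hgst
  rw [Subgroup.mem_centralizer_iff]
  intro x hx
  have h1 : (Watanabe.orb M D e ⟨x, hx⟩).card = 1 := by
    have h := heq ⟨x, hx⟩ (Finset.mem_univ _)
    rw [inv_eq_one] at h
    exact_mod_cast h
  have hgx : g * x * g⁻¹ ∈ D := (Subgroup.mem_normalizer_iff.1 hgN x).1 hx
  have hin : (⟨g * x * g⁻¹, hgx⟩ : D) ∈ Watanabe.orb M D e ⟨x, hx⟩ :=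
    Watanabe.mem_orb.2 ⟨g, (mem_pairStab_iff hM hmax.1.1.2).2 ⟨hgN, hgst⟩, rfl⟩
  have h := congrArg Subtype.val
    (Finset.card_le_one.1 h1.le _ hin _ (Watanabe.self_mem_orb (⟨x, hx⟩ : D)))
  exact (mul_inv_eq_iff_eq_mul.1 h).symm

end Cfsg.Agent.BlockFour
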