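import Cfsg.Agent.Lib.BlockTwo.Main
import Cfsg.Agent.Lib.BlockFour.Corner

/-!
# The number of simple modules of a block

* `exists_lift`: a trace form of a block modulo `M` lifts to the characters of the block;
* `card_le_blockRank`: trace forms independent on the regular elements are at most `l(B)`;
* `exists_corner`: the block algebra of a block with `l(B) = 1` and `k(B) ≤ 4`.
-/

set_option autoImplicit false
set_option linter.style.haveILetI false

namespace Cfsg.Agent.BlockFour

open Cfsg Cfsg.Agent.Blocks Cfsg.Agent.BrauerPairs Module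

variable {G : Type*} [Group G] [Finite G] {p : ℕ} {M : Ideal AlgInt}

/-- A trace form of a block modulo `M` lifts to a combination of its characters. -/
theorem exists_lift (hM : IsPModular p M) {B : Set (IrrCharacter G)} (hB : IsPBlock M B) :
    letI := ModRep.resField hM
    ∀ T : Dual (Res M) (MonoidAlgebra (Res M) G), (∀ a b, T (a * b) = T (b * a)) →
      (∀ a, T (a * blk M B) = T a) →
      ∃ w : G → ℂ, (∀ g, MemLocalRing M (w g)) ∧
        pRegularPart p w ∈ Submodule.span ℂ
          ((fun χ : IrrCharacter G => pRegularPart p (χ : G → ℂ)) '' B) ∧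
        ∀ g, res M (w g) = T (MonoidAlgebra.single g 1) := by
  classical
  letI := ModRep.resField hM
  intro T hT hTe
  have := Fintype.ofFinite G
  have := Fintype.ofFinite (IrrCharacter G)
  set e := blk M B with he
  have hec : ∀ a, a * e = e * a := fun a => ((fixed_blk B).commute SuppIn.top).symm
  let a : MonoidAlgebra (Res M) G := ∑ g : G, MonoidAlgebra.single g (T (MonoidAlgebra.single g⁻¹ 1))
  have ha : ∀ g, a.coeff g = T (MonoidAlgebra.single g⁻¹ 1) := fun g => by
    simp [a, MonoidAlgebra.coeff_sum, Finsupp.finsetSum_apply, MonoidAlgebra.coeff_single,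
      Finsupp.single_apply]
  have hfix : Fixed ⊤ a := fun u _ => by
    refine MonoidAlgebra.ext (Finsupp.ext fun g => ?_)
    rw [coeff_cj, ha, ha]
    have h := hT (MonoidAlgebra.single (u⁻¹ * g⁻¹) (1 : Res M)) (MonoidAlgebra.single u 1)
    simp only [MonoidAlgebra.single_mul_single, one_mul] at h
    rw [show (u⁻¹ * g * u)⁻¹ = u⁻¹ * g⁻¹ * u by group, h, mul_inv_cancel_left]
  have hae : a * e = a := by
    refine MonoidAlgebra.ext (Finsupp.ext fun g => ?_)
    rw [coeff_mul_eq_sum, ha, ← hTe, hec]
    conv_rhs => rw [show e = ∑ y : G, MonoidAlgebra.single y (e.coeff y) from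
      MonoidAlgebra.ext (Finsupp.ext fun y => by
        simp [MonoidAlgebra.coeff_sum, Finsupp.finsetSum_apply, MonoidAlgebra.coeff_single,
          Finsupp.single_apply]), Finset.sum_mul, map_sum]
    refine Fintype.sum_equiv ((Equiv.inv G).trans (Equiv.mulRight g)) _ _ fun x => ?_
    simp only [Equiv.trans_apply, Equiv.inv_apply, Equiv.coe_mulRight,
      MonoidAlgebra.single_mul_single, mul_one, ha]
    rw [show x⁻¹ * g * g⁻¹ = x⁻¹ by group,
      show MonoidAlgebra.single x⁻¹ (e.coeff (x⁻¹ * g)) =
        e.coeff (x⁻¹ * g) • MonoidAlgebra.single x⁻¹ (1 : Res M) by simp, map_smul]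
    exact mul_comm _ _
  have hl := isClassFunction_lift hfix
  have hR := memR_lift hM a
  have hfR : ∀ g, MemLocalRing M (blockCoeff B g) := memR_blockCoeff hM hB
  have hfc := Blocks.isClassFunction_blockCoeff B
  let v : G → ℂ := conv (lift a) (blockCoeff B)
  have hv : v = ofOmega fun χ => omega (χ : IrrCharacter G).1 (lift a) * blockInd B χ := by
    refine eq_of_omega_eq (isClassFunction_conv hl hfc) (isClassFunction_ofOmega _) fun χ => ?_
    rw [omega_conv hl hfc, blockCoeff_eq_ofOmega, omega_ofOmega, omega_ofOmega]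
  refine ⟨fun g => v g⁻¹, fun g => ?_, ?_, fun g => ?_⟩
  · show MemLocalRing M (conv _ _ _)
    rw [conv_eq_sum]
    exact memR_sum hM _ fun x _ => memR_mul hM (hR x) (hfR _)
  · have hsum : pRegularPart p (fun g => v g⁻¹) = ∑ χ ∈ Finset.univ.filter (· ∈ B),
        ((Nat.card G : ℂ)⁻¹ * (omega (χ : IrrCharacter G).1 (lift a) * (χ : G → ℂ) 1)) •
          pRegularPart p (χ : G → ℂ) := by
      funext g
      simp only [Finset.sum_apply, Pi.smul_apply, smul_eq_mul, pRegularPart]
      split_ifs with hg
      · rw [hv, ofOmega_eq_sum, Finset.mul_sum, Finset.sum_filter]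
        refine Finset.sum_congr rfl fun χ _ => ?_
        by_cases hχ : χ ∈ B
        · rw [if_pos hχ, blockInd_of_mem hχ,
            Char.IsCharacter.apply_inv (Char.IsIrrCharacter.isCharacter χ.2), Complex.conj_conj]
          ring
        · rw [if_neg hχ, blockInd_of_notMem hχ]
          simp
      · simp
    rw [hsum]
    refine Submodule.sum_mem _ fun χ hχ => Submodule.smul_mem _ _ (Submodule.subset_span ?_)
    exact ⟨χ, (Finset.mem_filter.mp hχ).2, rfl⟩
  · show res M (v g⁻¹) = _
    rw [← coeff_red (M := M) v, show red M v = a from by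
      rw [show v = conv (lift a) (blockCoeff B) from rfl, red_conv hM hR hfR, red_lift hM]
      exact hae, ha, inv_inv]

/-- Trace forms of a block independent on the regular elements are at most `l(B)`. -/
theorem card_le_blockRank (hM : IsPModular p M) {B : Set (IrrCharacter G)} (hB : IsPBlock M B) :
    letI := ModRep.resField hM
    ∀ {r : ℕ} (T : Fin r → Dual (Res M) (MonoidAlgebra (Res M) G)),
      (∀ i a b, T i (a * b) = T i (b * a)) → (∀ i a, T i (a * blk M B) = T i a) →
      (∀ c : Fin r → Res M,
        (∀ g, IsPRegular p g → ∑ i, c i * T i (MonoidAlgebra.single g 1) = 0) → c = 0) →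
      r ≤ blockRank p B := by
  classical
  letI := ModRep.resField hM
  intro r T hT hTe hind
  have := Fintype.ofFinite G
  choose w hwR hwW hw using fun i => exists_lift hM hB (T i) (hT i) (hTe i)
  have hR : ∀ i g, MemLocalRing M (pRegularPart p (w i) g) := fun i g => by
    simp only [pRegularPart]
    split_ifs
    exacts [hwR i g, memR_zero hM]
  have hli : LinearIndependent ℂ fun i => pRegularPart p (w i) := by
    refine BlockTwo.linearIndependent_of_red hM _ hR (Fintype.linearIndependent_iff.mpr fun c hc => ?_)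
    refine congrFun (hind c fun g hg => ?_)
    have h := congrArg (fun z : MonoidAlgebra (Res M) G => z.coeff g) hc
    simp only [MonoidAlgebra.coeff_sum, Finsupp.finsetSum_apply, MonoidAlgebra.coeff_smul,
      Finsupp.smul_apply, smul_eq_mul, coeff_red, MonoidAlgebra.coeff_zero, Finsupp.zero_apply] at h
    rw [← h]
    exact Finset.sum_congr rfl fun i _ => by rw [← hw i g, pRegularPart, if_pos hg]
  have h := (finrank_span_eq_card hli).symm.trans_le (Submodule.finrank_mono
    (Submodule.span_le.mpr (Set.range_subset_iff.mpr hwW)))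
  rwa [Fintype.card_fin] at h

/-- Traces only depend on the regular part. -/
theorem trace_regular [Fact p.Prime] (k : Type*) [Field k] [CharP k p] (g : G) :
    ∃ y : G, IsPRegular p y ∧ ∀ (n : ℕ) (π : MonoidAlgebra k G →ₐ[k] Matrix (Fin n) (Fin n) k),
      Matrix.trace (π (MonoidAlgebra.single g 1)) = Matrix.trace (π (MonoidAlgebra.single y 1)) := by
  obtain ⟨x, y, rfl, hx, hy, ⟨j, hj⟩, hyo⟩ := Transfer.exists_pPart_mul (p := p) g
  refine ⟨y, fun hd => Nat.not_coprime_of_dvd_of_dvd (Fact.out : p.Prime).one_lt hd dvd_rfl hyo, fun n π => ?_⟩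
  rcases n.eq_zero_or_pos with rfl | hn
  · simp [Matrix.trace]
  haveI : NeZero n := ⟨hn.ne'⟩
  set U := π (MonoidAlgebra.single x 1) with hU
  set S := π (MonoidAlgebra.single y 1) with hS
  have hxy : π (MonoidAlgebra.single (x * y) 1) = U * S := by
    rw [hU, hS, ← map_mul, MonoidAlgebra.single_mul_single, one_mul]
  have hcomm : Commute (U - 1) S := by
    refine Commute.sub_left ?_ (Commute.one_left _)
    obtain ⟨i, hi⟩ := Subgroup.mem_zpowers_iff.mp hx
    obtain ⟨l, hl⟩ := Subgroup.mem_zpowers_iff.mp hy
    have hc : Commute ((x * y) ^ i) ((x * y) ^ l) := Commute.zpow_zpow_self _ _ _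
    rw [hi, hl] at hc
    show U * S = S * U
    rw [hU, hS, ← map_mul, ← map_mul, MonoidAlgebra.single_mul_single,
      MonoidAlgebra.single_mul_single, hc.eq]
  have hnil : IsNilpotent (U - 1) := ⟨p ^ j, by
    rw [sub_pow_char_pow_of_commute p j (Commute.one_right U), one_pow, hU, ← map_pow,
      MonoidAlgebra.single_pow, one_pow, ← hj, pow_orderOf_eq_one, ← MonoidAlgebra.one_def, map_one,
      sub_self]⟩
  have h0 := (Matrix.isNilpotent_trace_of_isNilpotent
    (Commute.isNilpotent_mul_right hcomm hnil)).eq_zero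
  rw [sub_mul, one_mul, Matrix.trace_sub, sub_eq_zero] at h0
  rw [hxy, h0]

end Cfsg.Agent.BlockFour
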